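import Cfsg.Agent.S0346
import Cfsg.Agent.S0338
import Cfsg.Agent.S0205
import Cfsg.Agent.S1477
import Cfsg.Agent.Lib.BGTypes.CNMaximal
import Cfsg.Agent.Lib.MetacyclicP.CTI.Zassenhaus
import Cfsg.Agent.Lib.CIT.Basic

/-!
A non-soluble CN-group has even order and its involution centralisers are 2-groups.
-/

set_option autoImplicit false

open Cfsg

namespace CfsgLib.CNStruct

open CfsgLib.CIT

theorem two_dvd_card {G : Type*} [Group G] [Finite G] (hns : ¬ Group.IsSolvable G) : 2 ∣ Nat.card G := by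
  by_contra h
  exact hns (Cfsg.Agent.S0205.result (Nat.not_even_iff_odd.1 fun he => h he.two_dvd))

theorem isCIT_of_isCN {G : Type*} [Group G] [Finite G] (hns : ¬ Group.IsSolvable G)
    (hCN : Cfsg.IsCNGroup G) : IsCIT G := by
  classical
  intro t ht
  have : Fact (Nat.Prime 2) := ⟨Nat.prime_two⟩
  have ht1 : t ≠ 1 := fun e => by rw [e, orderOf_one] at ht; omega
  set C := Subgroup.centralizer ({t} : Set G)
  obtain ⟨H, hCH, ⟨⟨hH, -⟩, hmax'⟩⟩ := Finite.exists_le_maximal
    (p := fun L : Subgroup G => Group.IsNilpotent L ∧ C ≤ L) (a := C) ⟨hCN t ht1, le_rfl⟩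
  have hmax : ∀ L : Subgroup G, Group.IsNilpotent L → H ≤ L → L = H := fun L hL hle =>
    le_antisymm (hmax' ⟨hL, hCH.trans hle⟩ hle) hle
  have htH : t ∈ H := hCH (Subgroup.mem_centralizer_singleton_iff.2 rfl)
  have h2 : 2 ∣ Nat.card H := ht ▸ Subgroup.orderOf_dvd_natCard H htH
  by_cases hpp : IsPrimePow (Nat.card H)
  · obtain ⟨p, k, hp, hk, hpk⟩ := hpp
    have hp' := hp.nat_prime
    have hp2 : p = 2 := ((Nat.prime_dvd_prime_iff_eq Nat.prime_two hp').1
      (Nat.prime_two.dvd_of_dvd_pow (hpk ▸ h2))).symm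
    exact (IsPGroup.of_card (n := k) (by rw [← hpk, hp2])).to_le hCH
  exfalso
  obtain ⟨hcop, hTI, hcl⟩ := Cfsg.Agent.S1477.result hCN H hH hmax
  have hcl' := hcl (hTI hpp (fun e => by omega))
  obtain ⟨z, hzH, hz, hzc⟩ := CfsgLib.BGTypes.exists_central_orderOf hH Nat.prime_two h2
  have hz1 : z ≠ 1 := fun e => by rw [e, orderOf_one] at hz; omega
  have hodd : Odd H.index := by
    refine Nat.not_even_iff_odd.1 fun he => ?_
    have := Nat.eq_one_of_dvd_coprimes hcop h2 he.two_dvd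
    omega
  have S : CfsgLib.MetacyclicP.CTI.Setting H z :=
    ⟨hH, hcl', hz, CfsgLib.BGTypes.centralizer_central_eq hCN hmax hz1 hzc, hodd, hns,
      fun K hK => Cfsg.Agent.S0205.result hK⟩
  letI : Fintype (G ⧸ Subgroup.normalizer (H : Set G)) := Fintype.ofFinite _
  have : IsSimpleGroup G := Cfsg.Agent.S0338.result S.isZassenhaus
    (by rw [← Nat.card_eq_fintype_card]; exact S.odd_card_quotient)
  have hp := Cfsg.Agent.S0346.result S.isZassenhaus
  refine hpp ?_
  obtain ⟨b, hb⟩ := S.exists_ne_base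
  let f : H → {c : G ⧸ Subgroup.normalizer (H : Set G) // c ≠ ((1 : G) : G ⧸ Subgroup.normalizer (H : Set G))} :=
    fun τ => ⟨(τ : G) • b, fun e => hb (MulAction.injective (τ : G) (e.trans
      (CfsgLib.MetacyclicP.CTI.smul_o_eq.2 (Subgroup.le_normalizer τ.2)).symm))⟩
  have hf : Function.Bijective f := by
    refine ⟨fun a c e => ?_, fun c => ?_⟩
    · exact (S.regular hb (f a).2).unique (y₁ := a) rfl (congrArg Subtype.val e).symm
    · obtain ⟨τ, hτ, -⟩ := S.regular hb c.2
      exact ⟨τ, Subtype.ext hτ⟩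
  rw [Nat.card_eq_of_bijective f hf, Nat.card_eq_fintype_card, Fintype.card_subtype_compl,
    Fintype.card_subtype_eq]
  exact hp

end CfsgLib.CNStruct
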