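import Cfsg.Agent.Lib.CIT.Main

/-!
A simple normal subgroup of a CIT group: odd local subgroups bound the index.
-/

set_option autoImplicit false

open Cfsg Subgroup
open scoped Pointwise

namespace CfsgLib.CNStruct

open CfsgLib.CIT

/-- A subgroup with no commuting pair acts semiregularly on a normalised subgroup. -/
theorem card_dvd_sub_one {G : Type*} [Group G] [Finite G] (H W : Subgroup G)
    (hn : ∀ a ∈ H, ∀ w ∈ W, a * w * a⁻¹ ∈ W)
    (hf : ∀ a ∈ H, ∀ w ∈ W, a * w = w * a → a = 1 ∨ w = 1) : Nat.card H ∣ Nat.card W - 1 := by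
  classical
  let X := {w : G // w ∈ W ∧ w ≠ 1}
  letI : MulAction H X :=
    { smul := fun a w => ⟨(a : G) * w.1 * (a : G)⁻¹, hn a a.2 w.1 w.2.1, fun h => w.2.2 (conj_eq_one_iff.1 h)⟩
      one_smul := fun w => Subtype.ext (by show (1 : G) * w.1 * (1 : G)⁻¹ = w.1; simp)
      mul_smul := fun a b w => Subtype.ext (by
        show ((a : G) * b) * w.1 * ((a : G) * b)⁻¹ = (a : G) * ((b : G) * w.1 * (b : G)⁻¹) * (a : G)⁻¹
        group) }
  have hst : ∀ w : X, MulAction.stabilizer H w = ⊥ := fun w => by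
    refine (Subgroup.eq_bot_iff_forall _).2 fun a ha => ?_
    have h : (a : G) * w.1 * (a : G)⁻¹ = w.1 := congrArg Subtype.val (MulAction.mem_stabilizer_iff.1 ha)
    exact Subtype.ext ((hf a a.2 w.1 w.2.1 (mul_inv_eq_iff_eq_mul.1 h)).resolve_right w.2.2)
  have hc := Nat.card_congr (MulAction.selfEquivOrbitsQuotientProd (G := H) (X := X) hst)
  rw [Nat.card_prod] at hc
  have hX : Nat.card X = Nat.card W - 1 := by
    have : Nat.card X = ((W : Set G) \ {1}).ncard := rfl
    rw [this, Set.ncard_sdiff_singleton_of_mem W.one_mem]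
    rfl
  exact ⟨_, by rw [← hX, hc, mul_comm]⟩

variable {X : Type*} [Group X] [Finite X]

/-- One class of involutions in `L` makes the index of `L` a power of two. -/
theorem index_two_pow (hX : IsCIT X) {L : Subgroup X} [L.Normal] (h2 : 2 ∣ Nat.card L)
    (hconj : ∀ u v : L, orderOf u = 2 → orderOf v = 2 → IsConj u v) : ∃ k, L.index = 2 ^ k := by
  have : Fact (Nat.Prime 2) := ⟨Nat.prime_two⟩
  obtain ⟨z, hz⟩ := exists_prime_orderOf_dvd_card' (G := L) 2 h2
  have hzX : orderOf (z : X) = 2 := by rw [Subgroup.orderOf_coe, hz]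
  set C := Subgroup.centralizer ({(z : X)} : Set X)
  have htop : C ⊔ L = ⊤ := by
    refine (Subgroup.eq_top_iff' _).2 fun x => ?_
    have hm : x * z * x⁻¹ ∈ L := (inferInstance : L.Normal).conj_mem _ z.2 x
    have ho : orderOf (⟨x * z * x⁻¹, hm⟩ : L) = 2 := by
      rw [← Subgroup.orderOf_coe]
      show orderOf (x * (z : X) * x⁻¹) = 2
      rw [Involutions.orderOf_conj, hzX]
    obtain ⟨l, hl⟩ := isConj_iff.1 (hconj z _ hz ho)
    have hl' : (l : X) * z * (l : X)⁻¹ = x * z * x⁻¹ := congrArg Subtype.val hl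
    have hc : (l : X)⁻¹ * x ∈ C := by
      refine Subgroup.mem_centralizer_singleton_iff.2 ?_
      calc (l : X)⁻¹ * x * z = (l : X)⁻¹ * (x * z * x⁻¹) * x := by group
        _ = (l : X)⁻¹ * ((l : X) * z * (l : X)⁻¹) * x := by rw [hl']
        _ = z * ((l : X)⁻¹ * x) := by group
    have : x = (l : X) * ((l : X)⁻¹ * x) := by group
    rw [this]
    exact Subgroup.mul_mem _ (Subgroup.mem_sup_right l.2) (Subgroup.mem_sup_left hc)
  obtain ⟨n, hn⟩ := IsPGroup.iff_card.1 (hX (z : X) hzX)
  have hd : L.relIndex C ∣ 2 ^ n := hn ▸ (L.subgroupOf C).index_dvd_card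
  obtain ⟨k, -, hk⟩ := (Nat.dvd_prime_pow Nat.prime_two).1 hd
  exact ⟨k, by rw [← hk, ← Subgroup.relIndex_sup_right, htop, Subgroup.relIndex_top_right]⟩

/-- An odd subgroup whose class in `L` is invariant: a `2`-subgroup of its normaliser is semiregular. -/
theorem index_mul_dvd (hX : IsCIT X) {L A : Subgroup X} [L.Normal] (hA : Odd (Nat.card A))
    (htop : Subgroup.normalizer (A : Set X) ⊔ L = ⊤) {k j : ℕ} (hidx : L.index = 2 ^ k)
    (hj : 2 ^ j ∣ Nat.card ↥(Subgroup.normalizer (A : Set X) ⊓ L)) :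
    L.index * 2 ^ j ∣ Nat.card A - 1 := by
  have : Fact (Nat.Prime 2) := ⟨Nat.prime_two⟩
  set N := Subgroup.normalizer (A : Set X)
  have hcard : Nat.card N = L.index * Nat.card ↥(N ⊓ L) := by
    have h1 := (L.subgroupOf N).index_mul_card
    have h2 : Nat.card (L.subgroupOf N) = Nat.card ↥(N ⊓ L) := by
      rw [← Subgroup.inf_subgroupOf_left, Nat.card_congr (Subgroup.subgroupOfEquivOfLe inf_le_left).toEquiv]
    have h3 : L.relIndex N = L.index := by
      rw [← Subgroup.relIndex_sup_right, htop, Subgroup.relIndex_top_right]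
    rw [← h1, h2, ← h3]; rfl
  obtain ⟨T, hT⟩ := Sylow.exists_subgroup_card_pow_prime (G := N) 2 (n := k + j) (by
    rw [hcard, hidx, pow_add]; exact Nat.mul_dvd_mul_left _ hj)
  set T' := T.map N.subtype
  have hT' : Nat.card T' = 2 ^ (k + j) := by
    rw [Subgroup.card_map_of_injective N.subtype_injective, hT]
  rw [hidx, ← pow_add, ← hT']
  refine card_dvd_sub_one T' A (fun a ha w hw => ?_) fun a ha w hw hc => ?_
  · exact (Subgroup.mem_normalizer_iff.1 (Subgroup.map_subtype_le T ha) w).1 hw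
  · by_contra! h
    refine h.2 (hX.eq_one_of_commute (two_dvd_orderOf_of_mem (IsPGroup.of_card hT') ha h.1) ?_ hc)
    exact hA.of_dvd_nat (Subgroup.orderOf_dvd_natCard A hw)

/-- In a simple group no nontrivial cyclic Sylow subgroup has a trivial automiser. -/
theorem exists_not_commute {L : Type*} [Group L] [Finite L] [IsSimpleGroup L]
    (hna : ∃ a b : L, a * b ≠ b * a) {p : ℕ} [Fact p.Prime] (P : Sylow p L) (hd : p ∣ Nat.card L) :
    ¬ Subgroup.normalizer ((P : Subgroup L) : Set L) ≤ Subgroup.centralizer ((P : Subgroup L) : Set L) := by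
  intro hP
  obtain ⟨a, b, hab⟩ := hna
  have hns : ¬ Group.IsSolvable L := fun h => hab (IsSimpleGroup.comm_iff_isSolvable.2 h a b)
  have hPne : (P : Subgroup L) ≠ ⊥ := P.ne_bot_of_dvd_card hd
  have hc := MonoidHom.ker_transferSylow_isComplement' P hP
  rcases (MonoidHom.normal_ker (MonoidHom.transferSylow P hP)).eq_bot_or_eq_top with e | e
  · rw [e] at hc
    have hPtop : (P : Subgroup L) = ⊤ := Subgroup.isComplement'_bot_left.1 hc
    have hnil : Group.IsNilpotent (P : Subgroup L) := P.2.isNilpotent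
    exact hns (Group.isSolvable_of_surjective (f := (P : Subgroup L).subtype) fun g =>
      ⟨⟨g, hPtop ▸ Subgroup.mem_top g⟩, rfl⟩)
  · rw [e] at hc
    exact hPne (Subgroup.isComplement'_top_left.1 hc)

theorem not_dvd_relIndex_centralizer {L : Type*} [Group L] [Finite L] {p : ℕ} [Fact p.Prime]
    (P : Sylow p L) (hP : IsCyclic (P : Subgroup L)) :
    ¬ p ∣ (Subgroup.centralizer ((P : Subgroup L) : Set L)).relIndex
      (Subgroup.normalizer ((P : Subgroup L) : Set L)) := by
  intro h
  have : IsMulCommutative (P : Subgroup L) := inferInstance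
  have hle : (P : Subgroup L) ≤ Subgroup.centralizer ((P : Subgroup L) : Set L) :=
    fun g hg => Subgroup.mem_centralizer_iff.2 fun x hx =>
      congrArg Subtype.val (mul_comm' (⟨x, hx⟩ : (P : Subgroup L)) ⟨g, hg⟩)
  exact P.not_dvd_index ((h.trans (Subgroup.relIndex_dvd_of_le_left _ hle)).trans
    (Subgroup.relIndex_dvd_index_of_le Subgroup.le_normalizer))

/-- A cyclic Sylow `3`-subgroup and one class of involutions: `L` is everything. -/
theorem eq_top_of_cyclic_three (hX : IsCIT X) {L : Subgroup X} [L.Normal] [IsSimpleGroup L]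
    (hna : ∃ a b : L, a * b ≠ b * a) {k : ℕ} (hidx : L.index = 2 ^ k) (h3 : 3 ∣ Nat.card L)
    (hcyc : ∀ P : Sylow 3 L, IsCyclic (P : Subgroup L)) : L = ⊤ := by
  have : Fact (Nat.Prime 3) := ⟨Nat.prime_three⟩
  obtain ⟨P⟩ : Nonempty (Sylow 3 L) := inferInstance
  have := hcyc P
  obtain ⟨a, ha⟩ := exists_prime_orderOf_dvd_card' (G := (P : Subgroup L)) 3 (P.dvd_card_of_dvd_card h3)
  set P' := (P : Subgroup L).map L.subtype with hP'
  set A := Subgroup.zpowers ((a : L) : X) with hA
  have hAcard : Nat.card A = 3 := by rw [Nat.card_zpowers, Subgroup.orderOf_coe, Subgroup.orderOf_coe, ha]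
  have hP'cyc : IsCyclic P' :=
    ((P : Subgroup L).equivMapOfInjective L.subtype L.subtype_injective).isCyclic.1 this
  -- `A` is characteristic in `P'`
  have hNle : Subgroup.normalizer (P' : Set X) ≤ Subgroup.normalizer (A : Set X) := by
    have haP : ((a : L) : X) ∈ P' := ⟨a, a.2, rfl⟩
    have key : ∀ g ∈ Subgroup.normalizer (P' : Set X), ∀ x ∈ A, g * x * g⁻¹ ∈ A := by
      intro g hg x hx
      have hAP : A ≤ P' := Subgroup.zpowers_le.2 haP
      have hx' : g * x * g⁻¹ ∈ P' := (Subgroup.mem_normalizer_iff.1 hg x).1 (hAP hx)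
      have hxo : x ^ 3 = 1 := by
        have := pow_card_eq_one' (x := (⟨x, hx⟩ : A))
        rw [hAcard] at this
        exact congrArg Subtype.val this
      classical
      letI : Fintype P' := Fintype.ofFinite _
      have hbound := IsCyclic.card_pow_eq_one_le (α := P') (show 0 < 3 by norm_num)
      let f : A → {y : P' // y ^ 3 = 1} := fun w => ⟨⟨w, hAP w.2⟩, Subtype.ext (by
        have := pow_card_eq_one' (x := w)
        rw [hAcard] at this
        show (w : X) ^ 3 = 1
        exact congrArg Subtype.val this)⟩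
      have hf : Function.Injective f := fun w w' e =>
        Subtype.ext (congrArg (fun y : {y : P' // y ^ 3 = 1} => ((y : P') : X)) e)
      have hbij := hf.bijective_of_nat_card_le (by
        rw [hAcard, Nat.card_eq_fintype_card, Fintype.card_subtype]
        exact hbound)
      obtain ⟨w, hw⟩ := hbij.2 ⟨⟨g * x * g⁻¹, hx'⟩, Subtype.ext (by
        show (g * x * g⁻¹) ^ 3 = 1
        rw [conj_pow, hxo, mul_one, mul_inv_cancel])⟩
      have hw' : (w : X) = g * x * g⁻¹ := congrArg (fun y : {y : P' // y ^ 3 = 1} => ((y : P') : X)) hw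
      exact hw' ▸ w.2
    intro g hg
    rw [Subgroup.mem_normalizer_iff]
    refine fun x => ⟨key g hg x, fun hx => ?_⟩
    have := key g⁻¹ (Subgroup.inv_mem _ hg) _ hx
    simpa [mul_assoc] using this
  have htop : Subgroup.normalizer (A : Set X) ⊔ L = ⊤ :=
    top_le_iff.1 ((Sylow.normalizer_sup_eq_top P).ge.trans (sup_le_sup_right hNle L))
  -- an element of even order normalising `A` in `L`
  set NP := Subgroup.normalizer ((P : Subgroup L) : Set L)
  set CP := Subgroup.centralizer ((P : Subgroup L) : Set L)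
  have h2 : 2 ∣ Nat.card ↥(Subgroup.normalizer (A : Set X) ⊓ L) := by
    have hr : CP.relIndex NP ∣ 2 * 3 ^ (Nat.card (P : Subgroup L)) := by
      obtain ⟨n, hn⟩ := IsPGroup.iff_card.1 P.2
      have hd : CP.relIndex NP ∣ Nat.card (MulAut (P : Subgroup L)) := by
        have h1 := Subgroup.index_ker (Subgroup.normalizerMonoidHom (P : Subgroup L))
        rw [Subgroup.normalizerMonoidHom_ker] at h1
        show (CP.subgroupOf NP).index ∣ _
        rw [h1]
        exact Subgroup.card_subgroup_dvd_card _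
      rw [Nat.card_congr (IsCyclic.mulAutMulEquiv (P : Subgroup L)).toEquiv,
        Nat.card_eq_fintype_card, ZMod.card_units_eq_totient, hn] at hd
      rw [hn]
      rcases n with _ | n
      · exact hd.trans (by simp)
      · rw [Nat.totient_prime_pow_succ Nat.prime_three] at hd
        refine hd.trans ?_
        rw [mul_comm]
        exact mul_dvd_mul_left 2 (pow_dvd_pow 3 ((Nat.lt_pow_self (by norm_num)).le.trans'
          (Nat.le_succ n)))
    have hne : CP.relIndex NP ≠ 1 := fun e => exists_not_commute hna P h3 (Subgroup.relIndex_eq_one.1 e)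
    have h3' := not_dvd_relIndex_centralizer P (hcyc P)
    have heven : 2 ∣ CP.relIndex NP := by
      have hd2 : CP.relIndex NP ∣ 2 :=
        (Nat.Coprime.pow_right _ ((Nat.Prime.coprime_iff_not_dvd Nat.prime_three).2 h3').symm).dvd_of_dvd_mul_right hr
      rcases (Nat.dvd_prime Nat.prime_two).1 hd2 with e | e
      · exact absurd e hne
      · rw [e]
    have hNP : 2 ∣ Nat.card NP := heven.trans (CP.subgroupOf NP).index_dvd_card
    have : Fact (Nat.Prime 2) := ⟨Nat.prime_two⟩
    obtain ⟨g, hg⟩ := exists_prime_orderOf_dvd_card' (G := NP) 2 hNP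
    have hgN : ((g : L) : X) ∈ Subgroup.normalizer (A : Set X) := hNle
      (Subgroup.le_normalizer_map L.subtype ⟨g, g.2, rfl⟩)
    have := Subgroup.orderOf_dvd_natCard (Subgroup.normalizer (A : Set X) ⊓ L)
      (show ((g : L) : X) ∈ _ from ⟨hgN, (g : L).2⟩)
    rwa [Subgroup.orderOf_coe, Subgroup.orderOf_coe, hg] at this
  have h := index_mul_dvd hX (A := A) (hAcard ▸ by decide) htop hidx (j := 1) (by simpa using h2)
  rw [hAcard] at h
  refine Subgroup.index_eq_one.1 (Nat.dvd_one.1 ?_)
  exact (Nat.mul_dvd_mul_iff_right (show 0 < 2 by norm_num)).1 (by simpa using h)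

/-- A Sylow `7`-subgroup of order seven: `L` is everything. -/
theorem eq_top_of_seven (hX : IsCIT X) {L : Subgroup X} [L.Normal] [IsSimpleGroup L]
    (hna : ∃ a b : L, a * b ≠ b * a) {k : ℕ} (hidx : L.index = 2 ^ k) (h7 : 7 ∣ Nat.card L)
    (h49 : ¬ 49 ∣ Nat.card L) : L = ⊤ := by
  classical
  have : Fact (Nat.Prime 7) := ⟨by norm_num⟩
  have : Fact (Nat.Prime 2) := ⟨Nat.prime_two⟩
  obtain ⟨P⟩ : Nonempty (Sylow 7 L) := inferInstance
  have hPcard : Nat.card (P : Subgroup L) = 7 := by
    obtain ⟨n, hn⟩ := IsPGroup.iff_card.1 P.2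
    have hd := (P : Subgroup L).card_subgroup_dvd_card
    have h1 := P.dvd_card_of_dvd_card h7
    rw [hn] at hd h1 ⊢
    rcases n with _ | _ | n
    · norm_num at h1
    · rfl
    · exact absurd ((pow_dvd_pow 7 (show 2 ≤ n + 2 by omega)).trans hd) h49
  set A := (P : Subgroup L).map L.subtype with hA
  have hAcard : Nat.card A = 7 := by
    rw [hA, Subgroup.card_map_of_injective L.subtype_injective, hPcard]
  set N := Subgroup.normalizer (A : Set X)
  set φ := Subgroup.normalizerMonoidHom A
  have hker : ∀ g : N, φ g = 1 → Odd (orderOf (g : X)) := by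
    intro g hg
    rw [← MonoidHom.mem_ker, Subgroup.normalizerMonoidHom_ker, Subgroup.mem_subgroupOf] at hg
    by_contra he
    rw [Nat.not_odd_iff_even, even_iff_two_dvd] at he
    obtain ⟨⟨a, ha⟩, ha7⟩ := exists_prime_orderOf_dvd_card' (G := A) 7 (by rw [hAcard])
    rw [Subgroup.orderOf_mk] at ha7
    have := hX.eq_one_of_commute he (ha7.symm ▸ by decide) (Subgroup.mem_centralizer_iff.1 hg a ha).symm
    rw [this, orderOf_one] at ha7
    omega
  have : Fact (Nat.card A).Prime := ⟨hAcard ▸ by norm_num⟩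
  have hcycA : IsCyclic A := isCyclic_of_prime_card hAcard
  have hcard6 : Nat.card (MulAut A) = 6 := by
    rw [Nat.card_congr (IsCyclic.mulAutMulEquiv A).toEquiv, Nat.card_eq_fintype_card,
      ZMod.card_units_eq_totient, hAcard]
    decide
  -- no element of the automiser has even order and an odd part
  have h6 : ∀ g : N, 6 ∣ orderOf (φ g) → False := by
    intro g hg
    have h1 : 6 ∣ orderOf (g : X) := hg.trans (by rw [Subgroup.orderOf_coe]; exact orderOf_map_dvd φ g)
    obtain ⟨c, hc⟩ := h1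
    have hc0 : c ≠ 0 := fun e => (orderOf_pos (g : X)).ne' (by rw [hc, e])
    have h2 : orderOf ((g : X) ^ (3 * c)) = 2 := by
      rw [orderOf_pow' _ (by omega), hc, show 6 * c = (3 * c) * 2 by ring, Nat.gcd_mul_right_left,
        Nat.mul_div_cancel_left _ (by omega)]
    have h3 : orderOf ((g : X) ^ (2 * c)) = 3 := by
      rw [orderOf_pow' _ (by omega), hc, show 6 * c = (2 * c) * 3 by ring, Nat.gcd_mul_right_left,
        Nat.mul_div_cancel_left _ (by omega)]
    have := hX.eq_one_of_commute (a := (g : X) ^ (3 * c)) (x := (g : X) ^ (2 * c)) (by rw [h2])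
      (by rw [h3]; decide) ((Commute.refl (g : X)).pow_pow _ _)
    rw [this, orderOf_one] at h3
    omega
  by_contra hne
  have hk : 1 ≤ k := by
    by_contra h0
    exact hne (Subgroup.index_eq_one.1 (by rw [hidx, show k = 0 by omega, pow_zero]))
  have htop : N ⊔ L = ⊤ := Sylow.normalizer_sup_eq_top P
  have hNeven : 2 ∣ Nat.card N := by
    have h3 : L.relIndex N = L.index := by
      rw [← Subgroup.relIndex_sup_right, htop, Subgroup.relIndex_top_right]
    exact ((dvd_pow_self 2 (by omega : k ≠ 0)).trans (hidx ▸ h3 ▸ dvd_rfl)).trans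
      (L.subgroupOf N).index_dvd_card
  obtain ⟨t, ht⟩ := exists_prime_orderOf_dvd_card' (G := N) 2 hNeven
  have hφt : orderOf (φ t) = 2 := by
    refine orderOf_eq_prime (by rw [← map_pow, ← ht, pow_orderOf_eq_one, map_one]) fun e => ?_
    have := hker t e
    rw [Subgroup.orderOf_coe, ht] at this
    exact absurd this (by decide)
  have hcomm : ∀ u v : MulAut A, u * v = v * u := commute_mulAut_of_cyclic
  have htwo : ∀ g : N, φ g ^ 2 = 1 := by
    intro g
    have hd : orderOf (φ g) ∣ 6 := hcard6 ▸ orderOf_dvd_natCard _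
    by_contra hne2
    have h3 : 3 ∣ orderOf (φ g) := by
      by_contra h3
      exact hne2 (orderOf_dvd_iff_pow_eq_one.1 (((Nat.Prime.coprime_iff_not_dvd Nat.prime_three).2 h3).symm.dvd_of_dvd_mul_left
        (show orderOf (φ g) ∣ 3 * 2 from hd)))
    obtain ⟨c, hc⟩ := h3
    have hc0 : c ≠ 0 := fun e => (orderOf_pos (φ g)).ne' (by rw [hc, e])
    have h3g : orderOf (φ (g ^ c)) = 3 := by
      rw [map_pow, orderOf_pow' _ hc0, hc, Nat.gcd_mul_left_left, Nat.mul_div_cancel _ (Nat.pos_of_ne_zero hc0)]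
    refine h6 (t * g ^ c) ?_
    rw [map_mul, (show Commute (φ t) (φ (g ^ c)) from hcomm _ _).orderOf_mul_eq_mul_orderOf_of_coprime
      (by rw [hφt, h3g]; norm_num), hφt, h3g]
  -- an involution of `L` inverts `A`
  have h2L : 2 ∣ Nat.card ↥(N ⊓ L) := by
    obtain ⟨g, hg, hgc⟩ := SetLike.not_le_iff_exists.1 (exists_not_commute hna P h7)
    have hgN : (g : X) ∈ N := Subgroup.le_normalizer_map L.subtype ⟨g, hg, rfl⟩
    have hne1 : φ ⟨(g : X), hgN⟩ ≠ 1 := by
      intro e
      refine hgc (Subgroup.mem_centralizer_iff.2 fun x hx => ?_)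
      rw [← MonoidHom.mem_ker, Subgroup.normalizerMonoidHom_ker, Subgroup.mem_subgroupOf] at e
      exact Subtype.ext (Subgroup.mem_centralizer_iff.1 e (x : X) ⟨x, hx, rfl⟩)
    have h2' : orderOf (φ ⟨(g : X), hgN⟩) = 2 := orderOf_eq_prime (htwo _) hne1
    have := h2' ▸ orderOf_map_dvd φ (⟨(g : X), hgN⟩ : N)
    rw [Subgroup.orderOf_mk] at this
    exact this.trans (Subgroup.orderOf_dvd_natCard _ (show (g : X) ∈ N ⊓ L from ⟨hgN, g.2⟩))
  have h := index_mul_dvd hX (A := A) (hAcard ▸ by decide) htop hidx (j := 1) (by simpa using h2L)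
  rw [hAcard, hidx, ← pow_add] at h
  have := (pow_dvd_pow 2 (show 2 ≤ k + 1 by omega)).trans h
  norm_num at this

end CfsgLib.CNStruct
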