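import Cfsg.Agent.Lib.SL2.Unipotent
import Cfsg.Agent.Lib.SL2.Torus
import Cfsg.Agent.Lib.ClassicalLinear.Card
import Cfsg.Agent.Lib.Generators.TransvectionPairs

/-!
Sylow 3-subgroups of `PSL₂(q)` and the involutions of `PSL₃(q)`, `q` even.
-/

set_option autoImplicit false

open scoped MatrixGroups
open Matrix

namespace CfsgLib.CNStruct

section Two

open CfsgLib.SL2
open CfsgLib.ClassicalLinear (upS upS_add)

variable {F : Type*} [Field F] [Fintype F]

omit [Fintype F] in
theorem upS_nsmul (x : F) (n : ℕ) : (upS x : SL(2, F)) ^ n = upS (n • x) := by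
  induction n with
  | zero =>
    rw [pow_zero, zero_smul]
    apply Subtype.ext
    rw [CfsgLib.ClassicalLinear.upS_coe]
    simp [Matrix.one_fin_two]
  | succ n ih => rw [pow_succ, ih, ← upS_add, succ_nsmul]

theorem sl_sylow_three_cyclic (h3 : ¬ 3 ∣ Fintype.card F) [Fact (Nat.Prime 3)] (S : Sylow 3 SL(2, F)) :
    IsCyclic (S : Subgroup SL(2, F)) := by
  rcases subsingleton_or_nontrivial (S : Subgroup SL(2, F)) with h | h
  · infer_instance
  haveI := S.isPGroup'.center_nontrivial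
  obtain ⟨z, hz⟩ := exists_ne (1 : Subgroup.center (S : Subgroup SL(2, F)))
  set g : SL(2, F) := ((z : (S : Subgroup SL(2, F))) : SL(2, F)) with hg
  obtain ⟨i, hi⟩ := IsPGroup.iff_orderOf.1 S.isPGroup' (z : (S : Subgroup SL(2, F)))
  have ht : tr g ^ 2 ≠ 4 := by
    intro ht
    obtain ⟨k, ε, x, hε, hk⟩ := trichotomy ht
    have hcomm : Commute ε (upS x : SL(2, F)) := (Subgroup.mem_center_iff.1 hε _).symm
    have hε2 : ε ^ 2 = 1 := by
      rcases (CfsgLib.SL2.mem_center_iff ε).1 hε with e | e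
      · rw [e, one_pow]
      · rw [e]
        apply Subtype.ext
        simp [sq]
    have hx : (upS x : SL(2, F)) ^ Fintype.card F = 1 := by
      rw [upS_nsmul, nsmul_eq_mul, FiniteField.cast_card_eq_zero, zero_mul, ← zero_smul ℕ x, ← upS_nsmul,
        pow_zero]
    have hd : orderOf g ∣ 2 * Fintype.card F := by
      refine orderOf_dvd_of_pow_eq_one ?_
      have h1 : (k * g * k⁻¹) ^ (2 * Fintype.card F) = 1 := by
        rw [hk, hcomm.mul_pow, pow_mul, hε2, one_pow, one_mul, mul_comm, pow_mul, hx, one_pow]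
      rwa [conj_pow, conj_eq_one_iff] at h1
    rw [hg, Subgroup.orderOf_coe, hi] at hd
    rcases i with _ | i
    · exact hz (Subtype.ext (orderOf_eq_one_iff.1 (by rw [hi, pow_zero])))
    · rcases Nat.prime_three.dvd_mul.1 ((dvd_pow_self 3 (Nat.succ_ne_zero i)).trans hd) with e | e
      · omega
      · exact h3 e
  have hle : (S : Subgroup SL(2, F)) ≤ Subgroup.centralizer ({g} : Set SL(2, F)) := fun s hs =>
    Subgroup.mem_centralizer_singleton_iff.2
      (congrArg Subtype.val (Subgroup.mem_center_iff.1 z.2 ⟨s, hs⟩))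
  haveI := isCyclic_centralizer ht
  exact isCyclic_of_injective (Subgroup.inclusion hle) (Subgroup.inclusion_injective hle)

theorem psl_sylow_three_cyclic (h3 : ¬ 3 ∣ Fintype.card F) [Fact (Nat.Prime 3)]
    (S : Sylow 3 (ProjectiveSpecialLinearGroup (Fin 2) F)) :
    IsCyclic (S : Subgroup (ProjectiveSpecialLinearGroup (Fin 2) F)) := by
  obtain ⟨T, rfl⟩ := Sylow.mapSurjective_surjective
    (QuotientGroup.mk'_surjective (Subgroup.center SL(2, F))) 3 S
  haveI := sl_sylow_three_cyclic h3 T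
  exact isCyclic_of_surjective _
    (MonoidHom.subgroupMap_surjective (QuotientGroup.mk' (Subgroup.center SL(2, F))) (T : Subgroup SL(2, F)))

theorem three_dvd_card_psl :
    3 ∣ Nat.card (ProjectiveSpecialLinearGroup (Fin 2) F) := by
  set q := Fintype.card F with hq
  have h := CfsgLib.ClassicalLinear.card_PSL_two (F := F) hq.symm
  have h3 : 3 ∣ q * (q ^ 2 - 1) := by
    by_cases h0 : 3 ∣ q
    · exact dvd_mul_of_dvd_left h0 _
    · refine dvd_mul_of_dvd_right ?_ _
      have h1 : q ^ 2 % 3 = 1 := by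
        rw [Nat.pow_mod]
        have : q % 3 = 1 ∨ q % 3 = 2 := by omega
        rcases this with e | e <;> rw [e]
      omega
  rw [← h] at h3
  refine (Nat.prime_three.dvd_mul.1 h3).resolve_left fun e => ?_
  have := Nat.le_of_dvd (Nat.gcd_pos_of_pos_left _ two_pos) e
  have := Nat.gcd_le_left (q - 1) two_pos
  omega

end Two

section Three

variable {F : Type} [Field F] [Fintype F]

omit [Fintype F] in
/-- In characteristic two the involutions of `SL₃` are transvections. -/
theorem isTransvection_of_involution (h2 : (2 : F) = 0) (A : SpecialLinearGroup (Fin 3) F) (hA : A ≠ 1)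
    (hA2 : A * A = 1) : Cfsg.IsTransvection (A : Matrix (Fin 3) (Fin 3) F) := by
  set N : Matrix (Fin 3) (Fin 3) F := (A : Matrix (Fin 3) (Fin 3) F) - 1 with hN
  have hAA : (A : Matrix (Fin 3) (Fin 3) F) * (A : Matrix (Fin 3) (Fin 3) F) = 1 :=
    congrArg Subtype.val hA2
  have hNN : N * N = 0 := by
    have h2' : (2 : ℕ) • (A : Matrix (Fin 3) (Fin 3) F) = 0 := by
      rw [← Nat.cast_smul_eq_nsmul F, Nat.cast_ofNat, h2, zero_smul]
    have h2'' : (2 : ℕ) • (1 : Matrix (Fin 3) (Fin 3) F) = 0 := by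
      rw [← Nat.cast_smul_eq_nsmul F, Nat.cast_ofNat, h2, zero_smul]
    calc N * N = (A : Matrix (Fin 3) (Fin 3) F) * A - (2 : ℕ) • (A : Matrix (Fin 3) (Fin 3) F) + 1 := by
          rw [hN, sub_mul, mul_sub, mul_sub, one_mul, mul_one, one_mul, two_nsmul]; abel
      _ = 0 := by rw [hAA, h2', sub_zero, ← two_nsmul, h2'']
  refine ⟨?_, hNN⟩
  have hle : N.rank + N.rank ≤ 3 := by
    have h1 : LinearMap.range N.mulVecLin ≤ LinearMap.ker N.mulVecLin := by
      rintro _ ⟨x, rfl⟩
      show N *ᵥ (N *ᵥ x) = 0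
      rw [Matrix.mulVec_mulVec, hNN, Matrix.zero_mulVec]
    have h3 := N.mulVecLin.finrank_range_add_finrank_ker
    rw [Module.finrank_fintype_fun_eq_card, Fintype.card_fin] at h3
    have := Submodule.finrank_mono h1
    rw [Matrix.rank]
    omega
  have hne : N.rank ≠ 0 := by
    intro h0
    rw [Matrix.rank, Submodule.finrank_eq_zero, LinearMap.range_eq_bot] at h0
    refine hA (Subtype.ext (sub_eq_zero.1 ?_))
    exact Matrix.toLin'.injective (h0.trans (map_zero Matrix.toLin').symm)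
  show N.rank = 1
  omega

/-- One class of involutions in `PSL₃(F)`, characteristic two. -/
theorem isConj_involution_psl_three (h2 : (2 : F) = 0) (u v : ProjectiveSpecialLinearGroup (Fin 3) F)
    (hu : orderOf u = 2) (hv : orderOf v = 2) : IsConj u v := by
  classical
  have lift : ∀ w : ProjectiveSpecialLinearGroup (Fin 3) F, orderOf w = 2 →
      ∃ A : SpecialLinearGroup (Fin 3) F, QuotientGroup.mk A = w ∧ A ≠ 1 ∧ A * A = 1 := by
    intro w hw
    obtain ⟨g, rfl⟩ := QuotientGroup.mk_surjective w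
    refine ⟨g ^ 3, ?_, fun e => ?_, ?_⟩
    · rw [QuotientGroup.mk_pow, pow_succ, ← hw, pow_orderOf_eq_one, one_mul]
    · have h1 := orderOf_dvd_of_pow_eq_one (x := (QuotientGroup.mk g :
        ProjectiveSpecialLinearGroup (Fin 3) F)) (n := 3) (by rw [← QuotientGroup.mk_pow, e]; rfl)
      rw [hw] at h1
      norm_num at h1
    · have hc : g ^ 2 ∈ Subgroup.center (SpecialLinearGroup (Fin 3) F) := by
        rw [← QuotientGroup.eq_one_iff, QuotientGroup.mk_pow, ← hw, pow_orderOf_eq_one]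
      obtain ⟨r, hr, hs⟩ := Matrix.SpecialLinearGroup.mem_center_iff.1 hc
      rw [← pow_add, show 3 + 3 = 2 * 3 by norm_num, pow_mul]
      apply Subtype.ext
      rw [Matrix.SpecialLinearGroup.coe_pow, ← hs, ← map_pow]
      rw [Fintype.card_fin] at hr
      rw [hr, map_one]
      rfl
  obtain ⟨A, rfl, hA1, hA2⟩ := lift u hu
  obtain ⟨B, rfl, hB1, hB2⟩ := lift v hv
  obtain ⟨v₁, φ₁, hv₁, hφ₁, ho₁, e₁⟩ :=
    Generators.exists_vecMulVec_of_isTransvection (isTransvection_of_involution h2 A hA1 hA2)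
  obtain ⟨v₂, φ₂, hv₂, hφ₂, ho₂, e₂⟩ :=
    Generators.exists_vecMulVec_of_isTransvection (isTransvection_of_involution h2 B hB1 hB2)
  obtain ⟨g, hg, hgf⟩ := Generators.exists_gl_pair hv₁ hφ₁ ho₁ hv₂ hφ₂ ho₂
  obtain ⟨M, hM, hMv, hMφ⟩ := Generators.exists_commute_det (ι := Fin 3) (by simp) hv₂ hφ₂ ho₂
    ((g : Matrix (Fin 3) (Fin 3) F).det)⁻¹
  have hdet : (g : Matrix (Fin 3) (Fin 3) F).det ≠ 0 := (Matrix.GeneralLinearGroup.det g).ne_zero
  let C : SpecialLinearGroup (Fin 3) F := ⟨M * (g : Matrix (Fin 3) (Fin 3) F), by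
    rw [Matrix.det_mul, hM, inv_mul_cancel₀ hdet]⟩
  have hCA : C * A = B * C := by
    apply Subtype.ext
    show M * (g : Matrix (Fin 3) (Fin 3) F) * (A : Matrix (Fin 3) (Fin 3) F) =
      (B : Matrix (Fin 3) (Fin 3) F) * (M * (g : Matrix (Fin 3) (Fin 3) F))
    rw [e₁, e₂, mul_assoc, Generators.conj_one_add_vecMulVec g hg hgf, ← mul_assoc, ← mul_assoc]
    congr 1
    rw [mul_add, add_mul, mul_one, one_mul, Matrix.mul_vecMulVec, hMv, Matrix.vecMulVec_mul, hMφ]
  refine isConj_iff.2 ⟨QuotientGroup.mk C, ?_⟩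
  rw [mul_inv_eq_iff_eq_mul, ← QuotientGroup.mk_mul, ← QuotientGroup.mk_mul, hCA]

end Three

end CfsgLib.CNStruct
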