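import Cfsg.Agent.Lib.CNStruct.Local
import Cfsg.Agent.Lib.CNStruct.PSLFacts
import Cfsg.Agent.Lib.CIT.Zassenhaus
import Cfsg.Agent.Lib.CIT.PSLTwo
import Cfsg.Agent.Lib.InvChar.SymThreeModel

/-!
A CIT group with a simple normal subgroup: the subgroup is everything, or of index two and `PSL₂(9)`.
-/

set_option autoImplicit false

open Cfsg Subgroup
open scoped Pointwise

namespace CfsgLib.CNStruct

open CfsgLib.CIT

/-- The number of involutions of the normaliser of a Sylow subgroup is one less than a power of two. -/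
theorem exists_two_pow_m {G : Type*} [Group G] [Finite G] {M H : Subgroup G} {z : G}
    (h : TIConfig M H z) (hH : IsPGroup 2 H) : ∃ f, TIConfig.m M H + 1 = 2 ^ f := by
  classical
  have : Fact (Nat.Prime 2) := ⟨Nat.prime_two⟩
  have hcomm : ∀ v ∈ H, v * v = 1 → ∀ w ∈ H, v * w = w * v := by
    intro v hv h2 w hw
    by_cases h1 : v = 1
    · rw [h1, one_mul, mul_one]
    · have hw' : w ∈ Subgroup.centralizer ({v} : Set G) :=
        (h.invol_mem (Involutions.orderOf_eq_two_iff.2 ⟨h2, h1⟩) (h.le hv)).1.symm ▸ hw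
      exact (Subgroup.mem_centralizer_singleton_iff.1 hw').symm
  let W : Subgroup G :=
    { carrier := {v | v ∈ H ∧ v * v = 1}
      one_mem' := ⟨H.one_mem, one_mul 1⟩
      mul_mem' := fun {a b} ha hb => ⟨H.mul_mem ha.1 hb.1, by
        rw [mul_assoc, ← mul_assoc b a b, ← hcomm a ha.1 ha.2 b hb.1, mul_assoc a b b, hb.2, mul_one, ha.2]⟩
      inv_mem' := fun {a} ha => ⟨H.inv_mem ha.1, by rw [← mul_inv_rev, ha.2, inv_one]⟩ }
  obtain ⟨f, hf⟩ := IsPGroup.iff_card.1 (hH.to_le (fun v hv => hv.1 : W ≤ H))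
  refine ⟨f, ?_⟩
  rw [← hf, ← (h.card_involutions).2]
  have e : {v : G // orderOf v = 2 ∧ v ∈ M} ≃ {v : W // (v : G) ≠ 1} :=
    { toFun := fun v => ⟨⟨v, (h.invol_mem v.2.1 v.2.2).2, (Involutions.orderOf_eq_two_iff.1 v.2.1).1⟩,
        (Involutions.orderOf_eq_two_iff.1 v.2.1).2⟩
      invFun := fun v => ⟨((v : W) : G), Involutions.orderOf_eq_two_iff.2 ⟨(v : W).2.2, v.2⟩,
        h.le (v : W).2.1⟩
      left_inv := fun v => rfl
      right_inv := fun v => rfl }
  letI := Fintype.ofFinite W
  rw [Nat.card_congr e, Nat.card_eq_fintype_card, Nat.card_eq_fintype_card,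
    Fintype.card_congr (Equiv.subtypeEquivRight (p := fun v : W => (v : G) ≠ 1) (q := fun v : W => ¬ v = 1)
      (fun v => not_congr OneMemClass.coe_eq_one)), Fintype.card_subtype_compl, Fintype.card_subtype_eq]
  have := Fintype.card_pos_iff.2 ⟨(1 : W)⟩
  omega

variable {X : Type*} [Group X] [Finite X]

/-- Trivially intersecting Sylow 2-subgroups: the simple subgroup is everything. -/
theorem eq_top_of_tiSylow (hX : IsCIT X) {L : Subgroup X} [L.Normal] [IsSimpleGroup L]
    (hna : ∃ a b : L, a * b ≠ b * a) (h2 : 2 ∣ Nat.card L) (hTI : TISylow L) : L = ⊤ := by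
  classical
  have : Fact (Nat.Prime 2) := ⟨Nat.prime_two⟩
  have hL := hX.subgroup L
  have hO := pCore_eq_bot_of_simple hna
  obtain ⟨S⟩ : Nonempty (Sylow 2 L) := inferInstance
  obtain ⟨z, -, -, hc⟩ := hTI.tiConfig hL hO h2 S
  set M := Subgroup.normalizer ((S : Subgroup L) : Set L)
  set H := (S : Subgroup L)
  obtain ⟨k, hidx⟩ := index_two_pow hX h2 fun u v hu hv => (hc.isConj_z hu).symm.trans (hc.isConj_z hv)
  have hm : 1 < TIConfig.m M H := by
    by_contra hm
    have hm1 := TIConfig.m_pos (M := M) (H := H)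
    obtain ⟨N, hN, hodd, hne⟩ := hTI.exists_complement hL hO h2 S
      (show TIConfig.m M H = 1 by omega)
    rw [hN.eq_bot_or_eq_top.resolve_left hne, Subgroup.card_top] at hodd
    exact absurd h2 hodd.not_two_dvd_nat
  obtain ⟨ω, hω⟩ := hc.exists_ne_pt
  obtain ⟨t, ht, htM, htω, hK, hinv⟩ := hc.exists_swap hω
  set D := M ⊓ M.map (MulAut.conj t).toMonoidHom with hD
  have hmemD : ∀ a : L, a ∈ D ↔ a ∈ M ∧ a • ω = ω := fun a => by
    rw [hD, Subgroup.mem_inf, ← htω, TIConfig.smul_smul_pt_eq]
  have hDodd : Odd (Nat.card D) := hc.se.2.2 t htM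
  set A := D.map L.subtype with hA
  have hAcard : Nat.card A = TIConfig.m M H := by
    rw [hA, Subgroup.card_map_of_injective L.subtype_injective, hK]
  -- conjugates of `A` by elements normalising `S` are conjugate in `L`
  have htop : Subgroup.normalizer (A : Set X) ⊔ L = ⊤ := by
    refine top_le_iff.1 ((Sylow.normalizer_sup_eq_top S).ge.trans (sup_le ?_ le_sup_right))
    intro x hx
    have hxS : ∀ s : X, s ∈ H.map L.subtype ↔ x * s * x⁻¹ ∈ H.map L.subtype :=
      Subgroup.mem_normalizer_iff.1 hx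
    set χ : L ≃* L := MulAut.conjNormal x
    have hχ : ∀ a : L, ((χ a : L) : X) = x * a * x⁻¹ := MulAut.conjNormal_apply x
    have hχS : ∀ a : L, χ a ∈ H ↔ a ∈ H := fun a => by
      have := hxS (a : X)
      rw [← hχ] at this
      simpa using this.symm
    have hχM : ∀ a : L, a ∈ M → χ a ∈ M := fun a ha => by
      rw [Subgroup.mem_normalizer_iff]
      intro b
      obtain ⟨b', rfl⟩ := χ.surjective b
      rw [← map_inv, ← map_mul, ← map_mul, hχS, hχS]
      exact Subgroup.mem_normalizer_iff.1 ha b'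
    -- the image fixes a second point
    obtain ⟨⟨a, haD⟩, ha1⟩ : ∃ a : D, a ≠ 1 := by
      refine Subgroup.ne_bot_iff_exists_ne_one.1 fun e => ?_
      rw [e, Subgroup.card_bot] at hK
      exact hm.ne hK
    have hao : Odd (orderOf (χ a)) := by
      rw [MulEquiv.orderOf_eq]
      exact hDodd.of_dvd_nat (Subgroup.orderOf_dvd_natCard D haD)
    obtain ⟨r, hr, hrd⟩ := Nat.exists_prime_and_dvd
      (show orderOf (χ a) ≠ 1 by
        rw [MulEquiv.orderOf_eq, Ne, orderOf_eq_one_iff]
        exact fun e => ha1 (Subtype.ext e))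
    have : Fact r.Prime := ⟨hr⟩
    obtain ⟨c, hc'⟩ := hrd
    have hb : orderOf ((χ a) ^ c) = r := by
      have hc0 : c ≠ 0 := fun e => (orderOf_pos (χ a)).ne' (by rw [hc', e, mul_zero])
      rw [orderOf_pow' _ hc0, hc', Nat.gcd_mul_left_left, Nat.mul_div_cancel _ (Nat.pos_of_ne_zero hc0)]
    set b := (χ a) ^ c with hbdef
    have hbM : b ∈ M := M.pow_mem (hχM a ((hmemD a).1 haD).1) c
    obtain ⟨ω', hω', hbω⟩ : ∃ ω' : L ⧸ M, ω' ≠ TIConfig.pt M ∧ b • ω' = ω' := by
      by_contra! hall
      have hp : IsPGroup r (Subgroup.zpowers b) :=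
        IsPGroup.of_card (n := 1) (by rw [Nat.card_zpowers, hb, pow_one])
      have h1 := hp.card_modEq_card_fixedPoints (L ⧸ M)
      have h3 : Nat.card (MulAction.fixedPoints (Subgroup.zpowers b) (L ⧸ M)) = 1 := by
        rw [Nat.card_eq_one_iff_exists]
        refine ⟨⟨TIConfig.pt M, fun g => (TIConfig.smul_pt_eq (g : L)).2
          ((Subgroup.zpowers_le.2 hbM) g.2)⟩, fun y => Subtype.ext ?_⟩
        by_contra hy
        exact hall _ hy (y.2 ⟨b, Subgroup.mem_zpowers b⟩)
      rw [h3, ← Subgroup.index_eq_card, hc.index_eq hm] at h1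
      have h4 : r ∣ Nat.card H := Nat.modEq_zero_iff_dvd.1 (Nat.ModEq.add_right_cancel' 1 (by simpa using h1))
      obtain ⟨n, hn⟩ := IsPGroup.iff_card.1 S.2
      rw [show Nat.card H = 2 ^ n from hn] at h4
      obtain rfl : r = 2 := (Nat.prime_dvd_prime_iff_eq hr Nat.prime_two).1 (hr.dvd_of_dvd_pow h4)
      exact hao.not_two_dvd_nat ⟨c, hc'⟩
    have hfix : ∀ d ∈ D, χ d • ω' = ω' := by
      intro d hd
      have hcomm : χ d * b = b * χ d := by
        rw [hbdef, ← map_pow]
        rw [← map_mul, ← map_mul]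
        congr 1
        exact (show Commute d a from hc.commute_of_fix hω ((hmemD d).1 hd).1 ((hmemD a).1 haD).1
          ((hmemD d).1 hd).2 ((hmemD a).1 haD).2).pow_right c
      have hdM := hχM d ((hmemD d).1 hd).1
      refine hc.eq_of_fix hbM (fun e => ?_) (fun e => hω' ?_) hω' ?_ hbω
      · rw [e, orderOf_one] at hb
        exact hr.one_lt.ne hb
      · rw [← (TIConfig.smul_pt_eq (χ d)).2 hdM] at e
        exact MulAction.injective (χ d) e
      · rw [← mul_smul, ← hcomm, mul_smul, hbω]
    obtain ⟨g, hgM, hgω⟩ := hc.exists_smul_eq hm hω' hω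
    have hmap : ∀ d ∈ D, g * χ d * g⁻¹ ∈ D := fun d hd => (hmemD _).2
      ⟨M.mul_mem (M.mul_mem hgM (hχM d ((hmemD d).1 hd).1)) (M.inv_mem hgM), by
        rw [← hgω, mul_smul, mul_smul, inv_smul_smul, hfix d hd]⟩
    have hnorm : (g : X) * x ∈ Subgroup.normalizer (A : Set X) := by
      have h1 : ∀ y ∈ A, (g : X) * x * y * ((g : X) * x)⁻¹ ∈ A := by
        rintro _ ⟨d, hd, rfl⟩
        refine ⟨g * χ d * g⁻¹, hmap d hd, ?_⟩
        show ((g * χ d * g⁻¹ : L) : X) = _
        rw [Subgroup.coe_mul, Subgroup.coe_mul, hχ, Subgroup.coe_inv, mul_inv_rev]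
        simp only [mul_assoc, Subgroup.coe_subtype]
      rw [Subgroup.mem_normalizer_iff]
      refine fun y => ⟨h1 y, fun hy => ?_⟩
      obtain ⟨⟨y', hy'⟩, e⟩ := (show Function.Injective (fun y : A =>
          (⟨(g : X) * x * y * ((g : X) * x)⁻¹, h1 y y.2⟩ : A)) from
        fun u v e => Subtype.ext (by simpa using congrArg Subtype.val e)).bijective_of_nat_card_le le_rfl
        |>.2 ⟨_, hy⟩
      have e' : (g : X) * x * y' * ((g : X) * x)⁻¹ = (g : X) * x * y * ((g : X) * x)⁻¹ :=
        congrArg Subtype.val e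
      rw [mul_left_inj, mul_right_inj] at e'
      exact e' ▸ hy'
    have hx' : x = (g : X)⁻¹ * ((g : X) * x) := by group
    rw [hx']
    exact Subgroup.mul_mem _ (Subgroup.mem_sup_right (L.inv_mem g.2)) (Subgroup.mem_sup_left hnorm)
  -- the swapping involution inverts `A`
  have htN : (t : X) ∈ Subgroup.normalizer (A : Set X) := by
    have h1 : ∀ y ∈ A, (t : X) * y * (t : X)⁻¹ = y⁻¹ := by
      rintro _ ⟨d, hd, rfl⟩
      have := congrArg Subtype.val (hinv d ((hmemD d).1 hd).1 ((hmemD d).1 hd).2)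
      simpa using this
    rw [Subgroup.mem_normalizer_iff]
    refine fun y => ⟨fun hy => by rw [h1 y hy]; exact A.inv_mem hy, fun hy => ?_⟩
    have htt : (t : X) * t = 1 := congrArg Subtype.val (Involutions.mul_self_eq_one ht)
    have h2' := h1 _ hy
    rw [show (t : X) * ((t : X) * y * (t : X)⁻¹) * (t : X)⁻¹ = (t * t : X) * y * ((t * t : X))⁻¹ by group,
      htt, one_mul, inv_one, mul_one] at h2'
    rw [h2']
    exact A.inv_mem hy
  have h2N : 2 ^ 1 ∣ Nat.card ↥(Subgroup.normalizer (A : Set X) ⊓ L) := by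
    have := Subgroup.orderOf_dvd_natCard (Subgroup.normalizer (A : Set X) ⊓ L)
      (show (t : X) ∈ _ from ⟨htN, t.2⟩)
    rwa [Subgroup.orderOf_coe, ht] at this
  have h := index_mul_dvd hX (hAcard ▸ hK ▸ hDodd) htop hidx h2N
  rw [hAcard, hidx, ← pow_add] at h
  obtain ⟨f, hf⟩ := exists_two_pow_m hc S.2
  refine Subgroup.index_eq_one.1 ?_
  rcases Nat.eq_zero_or_pos k with hk | hk
  · rw [hidx, hk, pow_zero]
  · exfalso
    have h4 : 4 ∣ TIConfig.m M H - 1 := (pow_dvd_pow 2 (show 2 ≤ k + 1 by omega)).trans h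
    have hf2 : 2 ≤ f := by
      by_contra hlt
      interval_cases f <;> omega
    have h4' : 4 ∣ 2 ^ f := pow_dvd_pow 2 hf2
    omega

/-- Sylow 3-subgroups of `PSL₂(9)`: their normalisers have order 36. -/
theorem four_dvd_normalizer_of_card {L : Type*} [Group L] [Finite L] [IsSimpleGroup L]
    (hna : ∃ a b : L, a * b ≠ b * a) (hcard : Nat.card L = 360) [Fact (Nat.Prime 3)] (P : Sylow 3 L) :
    Nat.card (P : Subgroup L) = 9 ∧ 4 ∣ Nat.card (Subgroup.normalizer ((P : Subgroup L) : Set L)) := by
  classical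
  have hP : Nat.card (P : Subgroup L) = 9 := by
    obtain ⟨n, hn⟩ := IsPGroup.iff_card.1 P.2
    have h1 : 9 ∣ Nat.card (P : Subgroup L) :=
      P.pow_dvd_card_of_pow_dvd_card (n := 2) (by rw [hcard]; norm_num)
    have h2 := (P : Subgroup L).card_subgroup_dvd_card
    rw [hn] at h1 h2 ⊢
    rcases n with _ | _ | _ | n
    · norm_num at h1
    · norm_num at h1
    · rfl
    · have := (pow_dvd_pow 3 (show 3 ≤ n + 3 by omega)).trans h2
      rw [hcard] at this
      norm_num at this
  refine ⟨hP, ?_⟩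
  set N := Subgroup.normalizer ((P : Subgroup L) : Set L)
  have hmul := N.index_mul_card
  rw [hcard] at hmul
  have hmod := card_sylow_modEq_one 3 L
  rw [P.card_eq_index_normalizer] at hmod
  have h9 : 9 ∣ Nat.card N := hP ▸ Subgroup.card_dvd_of_le Subgroup.le_normalizer
  obtain ⟨c, hc⟩ := h9
  rw [hc] at hmul
  have hmul' : N.index * c = 40 := by linarith
  have hdiv : N.index ∈ ({1, 2, 4, 5, 8, 10, 20, 40} : Finset ℕ) := by
    have h' : N.index ∈ Nat.divisors 40 := Nat.mem_divisors.2 ⟨Dvd.intro c hmul', by norm_num⟩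
    exact (by decide : Nat.divisors 40 = {1, 2, 4, 5, 8, 10, 20, 40}) ▸ h'
  have hns : ¬ Group.IsSolvable L := fun h => by
    obtain ⟨a, b, hab⟩ := hna
    exact hab (IsSimpleGroup.comm_iff_isSolvable.2 h a b)
  simp only [Finset.mem_insert, Finset.mem_singleton] at hdiv
  rcases hdiv with e | e | e | e | e | e | e | e <;>
    (change N.index ≡ 1 [MOD 3] at hmod; rw [e] at hmul' hmod) <;>
    first
    | exact absurd hmod (by decide)
    | skip
  · -- normal Sylow subgroup
    exfalso
    have hN : N = ⊤ := Subgroup.index_eq_one.1 e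
    have : (P : Subgroup L).Normal := Subgroup.normalizer_eq_top_iff.1 hN
    rcases this.eq_bot_or_eq_top with e' | e'
    · rw [e', Subgroup.card_bot] at hP; omega
    · rw [e', Subgroup.card_top, hcard] at hP; omega
  · -- index four: a nontrivial action on four points
    exfalso
    let φ := MulAction.toPermHom L (L ⧸ N)
    rcases (MonoidHom.normal_ker φ).eq_bot_or_eq_top with e' | e'
    · have h1 := Subgroup.card_subgroup_dvd_card φ.range
      rw [← Nat.card_congr (MonoidHom.ofInjective ((MonoidHom.ker_eq_bot_iff φ).1 e')).toEquiv, hcard,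
        Nat.card_perm, ← Subgroup.index_eq_card, e] at h1
      have := Nat.le_of_dvd (by decide) h1
      norm_num [Nat.factorial] at this
    · have hN : N = ⊤ := by
        refine (Subgroup.eq_top_iff' N).2 fun g => ?_
        have h1 : φ g (QuotientGroup.mk 1) = QuotientGroup.mk 1 := by
          rw [MonoidHom.mem_ker.1 (e' ▸ Subgroup.mem_top g)]; rfl
        have h2 : QuotientGroup.mk (g * 1) = (QuotientGroup.mk 1 : L ⧸ N) := h1
        rw [QuotientGroup.eq, mul_one, mul_one] at h2
        simpa using N.inv_mem h2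
      rw [hN, Subgroup.index_top] at e
      omega
  · rw [hc]; exact dvd_mul_of_dvd_right (by omega) 9
  · -- self-normalising abelian Sylow subgroup
    exfalso
    refine exists_not_commute hna P (by rw [hcard]; norm_num) ?_
    have hNP : N = (P : Subgroup L) := (Subgroup.eq_of_le_of_card_ge Subgroup.le_normalizer (by
      rw [hc, hP]; omega)).symm
    have hab := IsPGroup.isMulCommutative_of_card_eq_prime_sq (p := 3) (G := (P : Subgroup L)) hP
    intro g hg
    rw [Subgroup.mem_centralizer_iff]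
    exact fun y hy => congrArg Subtype.val
      (mul_comm' (⟨y, hy⟩ : (P : Subgroup L)) ⟨g, hNP ▸ hg⟩)

universe u

/-- The simple normal subgroup is everything, or has index two and is `PSL₂(9)`. -/
theorem index_cases {X : Type u} [Group X] [Finite X] (hX : IsCIT X) (L : Subgroup X) [L.Normal]
    [IsSimpleGroup L] (hna : ∃ a b : L, a * b ≠ b * a) (h2 : 2 ∣ Nat.card L) :
    L = ⊤ ∨ (L.index = 2 ∧ ∃ (F : Type) (_ : Field F) (_ : Fintype F), Fintype.card F = 9 ∧
      Nonempty (L ≃* Matrix.ProjectiveSpecialLinearGroup (Fin 2) F)) := by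
  classical
  have hL := hX.subgroup L
  have : Fact (Nat.Prime 3) := ⟨Nat.prime_three⟩
  rcases refined L hL hna h2 with hTI | ⟨hdih, F, hF, hFt, hodd, ⟨e⟩⟩ | ⟨-, F, hF, hFt, hF4, ⟨e⟩⟩
  · exact Or.inl (eq_top_of_tiSylow hX hna h2 hTI)
  · obtain ⟨S, k, -, -, hconj⟩ := hdih
    obtain ⟨j, hidx⟩ := index_two_pow hX h2 hconj
    have hcases := card_of_isCIT_psl (hL.of_equiv e)
    by_cases h9 : Fintype.card F = 9
    · have hcard : Nat.card L = 360 := by
        rw [Nat.card_congr e.toEquiv]
        have := CfsgLib.ClassicalLinear.card_PSL_two_of_odd (F := F) h9 (by decide)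
        omega
      obtain ⟨P⟩ : Nonempty (Sylow 3 L) := inferInstance
      obtain ⟨hP, h4⟩ := four_dvd_normalizer_of_card hna hcard P
      set A := (P : Subgroup L).map L.subtype with hA
      have hAcard : Nat.card A = 9 := by rw [hA, Subgroup.card_map_of_injective L.subtype_injective, hP]
      have h4' : 2 ^ 2 ∣ Nat.card ↥(Subgroup.normalizer (A : Set X) ⊓ L) := by
        refine (h4.trans (dvd_of_eq ?_))
        rw [← Subgroup.card_map_of_injective (f := L.subtype) L.subtype_injective]
        congr 2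
        ext y
        constructor
        · rintro ⟨l, hl, rfl⟩
          exact ⟨Subgroup.le_normalizer_map L.subtype ⟨l, hl, rfl⟩, l.2⟩
        · rintro ⟨hy, hyL⟩
          refine ⟨⟨y, hyL⟩, Subgroup.mem_normalizer_iff.2 fun s => ?_, rfl⟩
          have := Subgroup.mem_normalizer_iff.1 hy (s : X)
          constructor
          · intro hs
            obtain ⟨w, hw, hw'⟩ := this.1 ⟨s, hs, rfl⟩
            exact (show w = ⟨y, hyL⟩ * s * ⟨y, hyL⟩⁻¹ from Subtype.ext hw') ▸ hw
          · intro hs
            obtain ⟨w, hw, hw'⟩ := this.2 ⟨_, hs, rfl⟩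
            exact (show w = s from Subtype.ext hw') ▸ hw
      have h := index_mul_dvd hX (hAcard ▸ by decide) (Sylow.normalizer_sup_eq_top P) hidx h4'
      rw [hAcard, hidx, ← pow_add] at h
      have hj : j ≤ 1 := by
        by_contra hgt
        have := Nat.le_of_dvd (by norm_num) ((pow_dvd_pow 2 (show 4 ≤ j + 2 by omega)).trans h)
        norm_num at this
      interval_cases j
      · exact Or.inl (Subgroup.index_eq_one.1 (by rw [hidx, pow_zero]))
      · exact Or.inr ⟨by rw [hidx, pow_one], F, hF, hFt, h9, ⟨e⟩⟩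
    refine Or.inl (eq_top_of_cyclic_three hX hna hidx ?_ fun P => ?_)
    · rw [Nat.card_congr e.toEquiv]
      exact three_dvd_card_psl
    · by_cases h3 : 3 ∣ Fintype.card F
      · obtain ⟨n, h⟩ | ⟨hp, -⟩ := hcases.resolve_left h9
        · exact absurd (h3.trans (dvd_of_eq h)) fun hd => by
            have := Nat.prime_three.dvd_of_dvd_pow hd
            norm_num at this
        · have hq : Fintype.card F = 3 := ((Nat.prime_dvd_prime_iff_eq Nat.prime_three hp).1 h3).symm
          have hcard : Nat.card L = 12 := by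
            rw [Nat.card_congr e.toEquiv]
            have := CfsgLib.ClassicalLinear.card_PSL_two_of_odd (F := F) hq (by decide)
            omega
          refine isCyclic_of_prime_card (p := 3) ?_
          obtain ⟨n, hn⟩ := IsPGroup.iff_card.1 P.2
          have h2' := (P : Subgroup L).card_subgroup_dvd_card
          have h1 := P.dvd_card_of_dvd_card (hcard ▸ (by norm_num : 3 ∣ 12))
          rw [hn] at h2' h1 ⊢
          rcases n with _ | _ | n
          · norm_num at h1
          · rfl
          · have := (pow_dvd_pow 3 (show 2 ≤ n + 2 by omega)).trans h2'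
            rw [hcard] at this
            norm_num at this
      · haveI : IsCyclic ((P.mapSurjective (f := e.toMonoidHom) e.surjective : Sylow 3 _) :
            Subgroup (Matrix.ProjectiveSpecialLinearGroup (Fin 2) F)) := psl_sylow_three_cyclic h3 _
        exact ((P : Subgroup L).equivMapOfInjective e.toMonoidHom e.injective).isCyclic.2
          (by assumption)
  · have hcard : Nat.card L = 20160 := by
      rw [Nat.card_congr e.toEquiv, CfsgLib.InvChar.SymThree.card_PSL_three_four hF4]
    have h2F : (2 : F) = 0 := by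
      have : ringChar F = 2 := by rw [FiniteField.even_card_iff_char_two, hF4]
      have : CharP F 2 := by rw [← this]; exact ringChar.charP F
      exact CharTwo.two_eq_zero
    obtain ⟨j, hidx⟩ := index_two_pow hX h2 fun u v hu hv => by
      have := isConj_involution_psl_three h2F (e u) (e v) (by rw [MulEquiv.orderOf_eq, hu])
        (by rw [MulEquiv.orderOf_eq, hv])
      have := e.symm.toMonoidHom.map_isConj this
      simpa using this
    exact Or.inl (eq_top_of_seven hX hna hidx (by rw [hcard]; norm_num) (by rw [hcard]; norm_num))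

end CfsgLib.CNStruct
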