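import Cfsg.Agent.Lib.CIT.Zassenhaus
import Cfsg.Agent.Lib.SuzukiIdent.Zassenhaus
import Cfsg.Agent.Lib.TwoFusion.ElemCentField
import Cfsg.Agent.S0347

/-!
Simple CIT groups with trivially intersecting Sylow 2-subgroups: `SL₂(2^n)` or a Suzuki group.
-/

set_option autoImplicit false

open Cfsg
open scoped MatrixGroups

namespace CfsgLib.CNStruct

open CfsgLib.CIT

universe u

/-- The abelian kernel gives `SL₂(2^n)`, the non-abelian one a Suzuki group. -/
theorem ti_cases {G : Type u} [Group G] [Finite G] [IsSimpleGroup G] (hcit : IsCIT G)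
    (hna : ∃ a b : G, a * b ≠ b * a) (h2 : 2 ∣ Nat.card G) (hTI : TISylow G) :
    (∃ (F : Type) (_ : Field F) (_ : Fintype F), (2 : F) = 0 ∧ 4 ≤ Fintype.card F ∧
        Nonempty (G ≃* SL(2, F))) ∨ (IsSuzuki G ∧ Cfsg.Lie.IsoSuzuki G) := by
  classical
  have : Fact (Nat.Prime 2) := ⟨Nat.prime_two⟩
  have hO := pCore_eq_bot_of_simple hna
  obtain ⟨S⟩ : Nonempty (Sylow 2 G) := inferInstance
  set M := Subgroup.normalizer ((S : Subgroup G) : Set G) with hM
  have hZ := zassenhaus_of_tiSylow hcit hna h2 hTI S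
  obtain ⟨z, -, -, hc⟩ := hTI.tiConfig hcit hO h2 S
  set H := (S : Subgroup G) with hH
  have hm : 1 < TIConfig.m M H := by
    by_contra hm
    have hm1 := TIConfig.m_pos (M := M) (H := H)
    obtain ⟨N, hN, hodd, hne⟩ := hTI.exists_complement hcit hO h2 S (show TIConfig.m M H = 1 by omega)
    rw [hN.eq_bot_or_eq_top.resolve_left hne, Subgroup.card_top] at hodd
    exact absurd h2 hodd.not_two_dvd_nat
  letI : Fintype (G ⧸ M) := Fintype.ofFinite _
  set o : G ⧸ M := TIConfig.pt M with ho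
  obtain ⟨b, hb⟩ := hc.exists_ne_pt
  have hHle : H ≤ MulAction.stabilizer G o := fun g hg => (TIConfig.smul_pt_eq g).2 (hc.le hg)
  -- `H` is regular on the other points
  have hne : ∀ τ ∈ H, ∀ y : G ⧸ M, y ≠ o → τ • y ≠ o := fun τ hτ y hy e =>
    hy (MulAction.injective τ (e.trans ((TIConfig.smul_pt_eq τ).2 (hc.le hτ)).symm))
  have hfree : ∀ τ ∈ H, ∀ y : G ⧸ M, y ≠ o → τ • y = y → τ = 1 := by
    intro τ hτ y hy hfix
    obtain ⟨t, -, htM, hty, -, -⟩ := hc.exists_swap hy
    have h1 : τ ∈ H ⊓ M.map (MulAut.conj t).toMonoidHom :=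
      ⟨hτ, (TIConfig.smul_smul_pt_eq t τ).1 (by rw [hty]; exact hfix)⟩
    rwa [hc.disj t htM, Subgroup.mem_bot] at h1
  have hreg : ∀ y w : G ⧸ M, y ≠ o → w ≠ o → ∃! u : H, (u : G) • y = w := by
    intro y w hy hw
    obtain ⟨g, hgM, hgy⟩ := hc.exists_smul_eq hm hy hw
    obtain ⟨τ, hτ, d, -, hd, rfl⟩ := hc.exists_eq_mul hy hgM
    refine ⟨⟨τ, hτ⟩, by rw [mul_smul, hd] at hgy; exact hgy, fun σ hσ => ?_⟩
    rw [mul_smul, hd] at hgy
    have hσ' : (σ : G) • y = w := hσ
    exact Subtype.ext (inv_mul_eq_one.1 (hfree (τ⁻¹ * σ) (H.mul_mem (H.inv_mem hτ) σ.2) y hy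
      (by rw [mul_smul, hσ', inv_smul_eq_iff, hgy]))).symm
  have hnormH : ∀ g ∈ MulAction.stabilizer G o, ∀ u ∈ H, g * u * g⁻¹ ∈ H := fun g hg u hu =>
    (Subgroup.mem_normalizer_iff.1 (hc.normal ((TIConfig.smul_pt_eq g).1 hg)) u).1 hu
  by_cases hab : ∀ u v : H, u * v = v * u
  · left
    have hHn : (H.subgroupOf (MulAction.stabilizer G o)).Normal :=
      ⟨fun x hx g => hnormH g g.2 _ hx⟩
    have hcardΩ : Fintype.card (G ⧸ M) = Nat.card H + 1 := by
      rw [← Nat.card_eq_fintype_card, ← Subgroup.index_eq_card, hc.index_eq hm]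
    have hmH : TIConfig.m M H + 1 = Nat.card H := by
      obtain ⟨t, -, -, htω, hK, -⟩ := hc.exists_swap hb
      have hDeq : MulAction.stabilizer G o ⊓ MulAction.stabilizer G b =
          M ⊓ M.map (MulAut.conj t).toMonoidHom := by
        ext g
        rw [Subgroup.mem_inf, Subgroup.mem_inf, MulAction.mem_stabilizer_iff, MulAction.mem_stabilizer_iff,
          TIConfig.smul_pt_eq, ← htω, TIConfig.smul_smul_pt_eq]
      rcases CfsgLib.AltGroups.zassenhaus_abelian_kernel hZ hb H hHle hHn ⟨⟨hab⟩⟩ hreg with h | ⟨h, -⟩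
      · rw [hDeq, hK, hcardΩ] at h
        change TIConfig.m M H + 2 = _ at h
        omega
      · rw [hcardΩ] at h
        obtain ⟨n, hn⟩ := IsPGroup.iff_card.1 S.2
        have h2H : 2 ∣ Nat.card H := (hc.z_ord ▸ Subgroup.orderOf_dvd_natCard H hc.mem_z :)
        omega
    -- all non-trivial elements of `H` are involutions
    have hsq : ∀ v ∈ H, v * v = 1 := by
      intro v hv
      by_cases h1 : v = 1
      · rw [h1, mul_one]
      letI := Fintype.ofFinite H
      have hcard : Nat.card {w : H // w ≠ 1} = TIConfig.m M H := by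
        rw [Nat.card_eq_fintype_card, Fintype.card_subtype_compl, Fintype.card_subtype_eq,
          ← Nat.card_eq_fintype_card]
        omega
      let f : {w : G // orderOf w = 2 ∧ w ∈ M} → {w : H // w ≠ 1} := fun w =>
        ⟨⟨w, (hc.invol_mem w.2.1 w.2.2).2⟩,
          fun e => Involutions.ne_one w.2.1 (congrArg Subtype.val e)⟩
      have hf : Function.Injective f := fun a c e =>
        Subtype.ext (congrArg (fun w : {w : H // w ≠ 1} => ((w : H) : G)) e)
      obtain ⟨w, hw⟩ := (hf.bijective_of_nat_card_le (by rw [hcard, hc.card_involutions.2])).2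
        ⟨⟨v, hv⟩, fun e => h1 (congrArg Subtype.val e)⟩
      have hw' : (w : G) = v := congrArg (fun w : {w : H // w ≠ 1} => ((w : H) : G)) hw
      rw [← hw']
      exact Involutions.mul_self_eq_one w.2.1
    have hE : TwoFusion.ElemCentHyp S := by
      refine ⟨fun hcyc => ?_, fun hn => ?_, fun t ht => ?_⟩
      · obtain ⟨g, hg⟩ := IsCyclic.exists_generator (α := H)
        have hle : Nat.card H ≤ 2 := by
          rw [← orderOf_eq_card_of_forall_mem_zpowers hg]
          exact Nat.le_of_dvd two_pos (orderOf_dvd_of_pow_eq_one (Subtype.ext (by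
            simpa [pow_two] using hsq g g.2)))
        omega
      · exact TISylow.normalizer_ne_top hO h2 S (Subgroup.normalizer_eq_top_iff.2 hn)
      · obtain ⟨c, hc'⟩ := isConj_iff.1 (hc.isConj_z ht)
        have hmem : ∀ x ∈ Subgroup.centralizer ({t} : Set G), c⁻¹ * x * c ∈ H := by
          intro x hx
          rw [← hc.cent, Subgroup.mem_centralizer_singleton_iff]
          calc c⁻¹ * x * c * z = c⁻¹ * (x * (c * z * c⁻¹)) * c := by group
            _ = c⁻¹ * ((c * z * c⁻¹) * x) * c := by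
              rw [hc', Subgroup.mem_centralizer_singleton_iff.1 hx]
            _ = z * (c⁻¹ * x * c) := by group
        refine ⟨IsMulCommutative.of_setLike_mul_comm fun x hx y hy => ?_, fun x hx => ?_⟩
        · have h' : (c⁻¹ * x * c) * (c⁻¹ * y * c) = (c⁻¹ * y * c) * (c⁻¹ * x * c) :=
            congrArg Subtype.val (hab ⟨_, hmem x hx⟩ ⟨_, hmem y hy⟩)
          calc x * y = c * ((c⁻¹ * x * c) * (c⁻¹ * y * c)) * c⁻¹ := by group
            _ = y * x := by rw [h']; group
        · have h' := hsq _ (hmem x hx)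
          calc x ^ 2 = c * ((c⁻¹ * x * c) * (c⁻¹ * x * c)) * c⁻¹ := by rw [pow_two]; group
            _ = 1 := by rw [h']; group
    obtain ⟨F, hF, hFt, hcard, h2F, e⟩ := hE.exists_mulEquiv_SL2
    refine ⟨F, hF, hFt, h2F, ?_, e⟩
    rw [hcard, show Nat.card (S : Subgroup G) = Nat.card H from rfl, ← hmH]
    obtain ⟨f, hf⟩ : ∃ f, Nat.card H = 2 ^ f := IsPGroup.iff_card.1 S.2
    rw [← hmH] at hf
    rcases f with _ | _ | f
    · omega
    · omega
    · have : 4 ≤ 2 ^ (f + 2) := Nat.pow_le_pow_right two_pos (show 2 ≤ f + 2 by omega)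
      omega
  · push Not at hab
    obtain ⟨u, v, huv⟩ := hab
    exact Or.inr ⟨Cfsg.Agent.S0347.result hZ o H hHle ⟨fun x hx g => hnormH g g.2 _ hx⟩ S.2 ⟨u, v, huv⟩ hreg,
      SuzukiIdent.isoSuzuki_of_zassenhaus hZ hb.symm H hHle hnormH hreg S.2 ⟨u, v, huv⟩⟩

end CfsgLib.CNStruct
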