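import Cfsg.Agent.Lib.CNStruct.Outer
import Cfsg.Agent.Lib.CNStruct.TICases
import Cfsg.Agent.Lib.Spectrum.CITStructure
import Cfsg.Agent.Lib.CIT.Faith
import Cfsg.Agent.Lib.PrimeElementOrders.Pair
import Cfsg.Agent.Lib.Subnormal.InvariantClassTwo

/-!
Non-soluble CIT groups of even order: simple, `PSL₂(9)` extended, or a 2-group extended by
`SL₂(2^n)` or a Suzuki group.
-/

set_option autoImplicit false

open Cfsg CfsgLib.PrimeElementOrders
open scoped MatrixGroups

namespace CfsgLib.CNStruct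

open CfsgLib.CIT CfsgLib.Spectrum.CITStructure

universe u

/-- With trivial 2-core. -/
theorem core_trivial_cases {G : Type u} [Group G] [Finite G] (hcit : IsCIT G)
    (hns : ¬ Group.IsSolvable G) (h2 : 2 ∣ Nat.card G) (hO : pCore 2 G = ⊥) :
    (IsSimpleGroup G ∧ ¬ IsMulCommutative G) ∨
      ∃ (N : Subgroup G), N.Normal ∧ N.index = 2 ∧ ∃ (F : Type) (_ : Field F) (_ : Fintype F),
        Fintype.card F = 9 ∧ Nonempty (N ≃* Matrix.ProjectiveSpecialLinearGroup (Fin 2) F) := by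
  obtain ⟨L, hLn, hLs, hna, hL2, -⟩ := exists_simple_normal hcit hns h2 hO
  haveI := hLn
  haveI := hLs
  rcases index_cases hcit L hna hL2 with rfl | ⟨hi, F, hF, hFt, h9, e⟩
  · haveI : IsSimpleGroup G := (Subgroup.topEquiv (G := G)).symm.isSimpleGroup
    refine Or.inl ⟨inferInstance, fun hc => ?_⟩
    obtain ⟨a, b, hab⟩ := hna
    exact hab (Subtype.ext (hc.is_comm.comm (a : G) b))
  · exact Or.inr ⟨L, hLn, hi, F, hF, hFt, h9, e⟩

/-- Elements of odd order act without fixed points on the quotient action on `Ω₁Z(O₂)`. -/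
theorem core_ne_bot_cases {G : Type u} [Group G] [Finite G] (hcit : IsCIT G)
    (hns : ¬ Group.IsSolvable G) (h2 : 2 ∣ Nat.card G) (hE : pCore 2 G ≠ ⊥) :
    (∃ (F : Type) (_ : Field F) (_ : Fintype F), (2 : F) = 0 ∧ 4 ≤ Fintype.card F ∧
        Nonempty (G ⧸ pCore 2 G ≃* SL(2, F))) ∨
      (IsSuzuki (G ⧸ pCore 2 G) ∧ Cfsg.Lie.IsoSuzuki (G ⧸ pCore 2 G)) := by
  classical
  have : Fact (Nat.Prime 2) := ⟨Nat.prime_two⟩
  set E := pCore 2 G with hEdef
  have hEp : IsPGroup 2 E := Cores.isPGroup_pCore 2 G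
  haveI : Group.IsNilpotent E := hEp.isNilpotent
  have hns' : ¬ Group.IsSolvable (G ⧸ E) := fun h => hns (Group.isSolvable_of_ker_le_range E.subtype
    (QuotientGroup.mk' E) (by rw [QuotientGroup.ker_mk', Subgroup.range_subtype]))
  have hX : IsCIT (G ⧸ E) := hcit.quotient hEp
  have hX2 : 2 ∣ Nat.card (G ⧸ E) := two_dvd_card_quotient hcit hns h2
  obtain ⟨L, hLn, hLs, hna, hL2, -⟩ := exists_simple_normal hX hns' hX2 (Cores.pCore_quotient_pCore 2 G)
  haveI := hLn
  haveI := hLs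
  -- the module `Ω₁Z(E)`
  set V := omegaZ E with hVdef
  haveI hVn : V.Normal := ⟨fun v hv g => by
    have hEn : ∀ h : G, ∀ y ∈ E, h * y * h⁻¹ ∈ E := fun h y hy =>
      (inferInstance : (pCore 2 G).Normal).conj_mem y hy h
    refine ⟨hEn g v hv.1, ?_, fun b hb => ?_⟩
    · calc g * v * g⁻¹ * (g * v * g⁻¹) = g * (v * v) * g⁻¹ := by group
        _ = 1 := by rw [hv.2.1]; group
    · have := hv.2.2 (g⁻¹ * b * g) (by simpa using hEn g⁻¹ b hb)
      calc g * v * g⁻¹ * b = g * (v * (g⁻¹ * b * g)) * g⁻¹ := by group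
        _ = g * ((g⁻¹ * b * g) * v) * g⁻¹ := by rw [this]
        _ = b * (g * v * g⁻¹) := by group⟩
  letI : CommGroup V :=
    { (inferInstance : Group V) with mul_comm := fun a b => Subtype.ext (a.2.2.2 b b.2.1) }
  haveI : Nontrivial V := by
    haveI : Nontrivial E := (Subgroup.nontrivial_iff_ne_bot E).2 hE
    haveI := hEp.center_nontrivial
    obtain ⟨n, hn, hc⟩ := (hEp.to_subgroup (Subgroup.center E)).nontrivial_iff_card.1 inferInstance
    obtain ⟨c, hc2⟩ := exists_prime_orderOf_dvd_card' (G := Subgroup.center E) 2 (hc ▸ dvd_pow_self 2 hn.ne')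
    have hc2' : orderOf ((c : E) : G) = 2 := by rw [Subgroup.orderOf_coe, Subgroup.orderOf_coe, hc2]
    refine nontrivial_of_ne (⟨((c : E) : G), (c : E).2, Involutions.mul_self_eq_one hc2', fun b hb =>
      congrArg Subtype.val (Subgroup.mem_center_iff.1 c.2 ⟨b, hb⟩).symm⟩ : V) 1 fun e => ?_
    exact Involutions.ne_one hc2' (congrArg Subtype.val e)
  let φ : G ⧸ E →* MulAut V := QuotientGroup.lift E MulAut.conjNormal fun e he =>
    MulEquiv.ext fun v => Subtype.ext (by
      rw [MulAut.conjNormal_apply]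
      exact mul_inv_eq_iff_eq_mul.2 (v.2.2.2 e he).symm)
  letI : MulDistribMulAction L V := MulDistribMulAction.compHom V (φ.comp L.subtype)
  have hact : FPFAct L V := by
    refine ⟨fun v => Subtype.ext v.2.2.1, fun x hx hx1 v hv => ?_⟩
    obtain ⟨g, hg, hgo⟩ := Subnormal.exists_odd_lift (QuotientGroup.mk'_surjective E)
      (k := (x : G ⧸ E)) (by rw [Subgroup.orderOf_coe]; exact hx)
    have hv' : g * (v : G) * g⁻¹ = v := by
      have h1 : φ (x : G ⧸ E) v = v := hv
      rw [← hg] at h1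
      have h2 := congrArg Subtype.val h1
      rwa [show φ (QuotientGroup.mk' E g) = MulAut.conjNormal g from rfl, MulAut.conjNormal_apply] at h2
    refine Subtype.ext (hcit.fpf hEp v.2.1 hgo (fun e => hx1 ?_) (mul_inv_eq_iff_eq_mul.1 hv').symm)
    rw [e, map_one] at hg
    exact Subtype.ext hg.symm
  have hfaith : ∀ a : L, (∀ v : V, a • v = v) → a = 1 := fun a ha =>
    hact.eq_one_of_trivial (pCore_eq_bot_of_simple hna) ha
  have hTI : TISylow L := by
    rcases refined L (hX.subgroup L) hna hL2 with h | ⟨h, -⟩ | ⟨h, -⟩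
    · exact h
    · exact absurd h (hact.not_dihedral (hX.subgroup L) hfaith)
    · exact absurd h hact.not_three
  obtain rfl : L = ⊤ := eq_top_of_tiSylow hX hna hL2 hTI
  haveI hXs : IsSimpleGroup (G ⧸ E) := (Subgroup.topEquiv (G := G ⧸ E)).symm.isSimpleGroup
  have hnaX : ∃ a b : G ⧸ E, a * b ≠ b * a := by
    obtain ⟨a, b, hab⟩ := hna
    exact ⟨a, b, fun e => hab (Subtype.ext e)⟩
  rcases refined (G ⧸ E) hX hnaX hX2 with h | ⟨h, -⟩ | ⟨h, -⟩
  · exact ti_cases hX hnaX hX2 h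
  · exfalso
    obtain ⟨S, k, hk, ⟨e⟩, hconj⟩ := h
    refine hact.not_dihedral (hX.subgroup ⊤) hfaith
      ⟨S.mapSurjective (f := (Subgroup.topEquiv (G := G ⧸ E)).symm.toMonoidHom) (MulEquiv.surjective _),
        k, hk, ⟨((S : Subgroup (G ⧸ E)).equivMapOfInjective _ (MulEquiv.injective _)).symm.trans e⟩,
        fun u v hu hv => ?_⟩
    have := hconj (u : G ⧸ E) v (by rw [Subgroup.orderOf_coe, hu]) (by rw [Subgroup.orderOf_coe, hv])
    exact (Subgroup.topEquiv (G := G ⧸ E)).symm.toMonoidHom.map_isConj this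
  · exact absurd (h.of_equiv (Subgroup.topEquiv (G := G ⧸ E)).symm) hact.not_three

end CfsgLib.CNStruct
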